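import Cfsg.Agent.Lib.Block.FongSwan.Over
import Cfsg.Agent.Lib.Char.ExtendPower
import Cfsg.Agent.Lib.PGroup.PSolvable

/-!
# Lift systems over an invariant character

An invariant character of a normal subgroup `N` of order prime to `p` extends to a finite central
extension `E`; the characters over it correspond to characters of `E / N`, whose centre has index
at most `|G : N|`.
-/

open scoped ComplexConjugate

set_option autoImplicit false
set_option linter.unusedSectionVars false

namespace CfsgLib.Block.FongSwan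

open Cfsg CfsgLib.Char

universe u

theorem isPSolvable_of_coprime_extension {X Y : Type u} [Group X] [Group Y] [Finite X] {p : ℕ}
    (f : X →* Y) (hf : Function.Surjective f) (hk : (Nat.card f.ker).Coprime p) (h : IsPSolvable p Y) :
    IsPSolvable p X := by
  obtain ⟨n, H, h0, hl, hm, hn, hs⟩ := h
  refine ⟨n + 1, Fin.cons ⊥ fun i => (H i).comap f, rfl, ?_, ?_, ?_, ?_⟩
  · rw [← Fin.succ_last, Fin.cons_succ, hl, Subgroup.comap_top]
  · intro i j hij
    induction i using Fin.cases with
    | zero => simp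
    | succ i =>
      induction j using Fin.cases with
      | zero => exact absurd hij (by simp [Fin.le_def])
      | succ j => simpa using Subgroup.comap_mono (f := f) (hm (Fin.succ_le_succ_iff.1 hij))
  · intro i
    induction i using Fin.cases with
    | zero => simp
    | succ i => simpa using (hn i).comap f
  · intro i
    induction i using Fin.cases with
    | zero =>
      right
      simp only [Fin.castSucc_zero, Fin.cons_zero, Fin.cons_succ, h0, Subgroup.relIndex_bot_left,
        MonoidHom.comap_bot]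
      exact hk
    | succ i =>
      have : ((H i.castSucc).comap f).relIndex ((H i.succ).comap f) =
          (H i.castSucc).relIndex (H i.succ) := by
        rw [Subgroup.relIndex_comap, Subgroup.map_comap_eq_self_of_surjective hf]
      simpa [Fin.castSucc_succ, this] using hs i

section Twist

variable {E : Type u} [Group E] [Fintype E] (N : Subgroup E) [N.Normal] [Fintype N]
  (Θ : IrrCharacter E)

/-- Multiplication by an extension is an isometry on functions constant on cosets. -/
theorem classInner_mul_extension (hΘ : IsIrrCharacter N (fun n : N => (Θ : E → ℂ) n))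
    {X : Subgroup E} [Fintype X] (hNX : N ≤ X) (f h : E → ℂ)
    (hf : ∀ (n : N) (x : E), f (n * x) = f x) (hh : ∀ (n : N) (x : E), h (n * x) = h x) :
    classInner (fun x : X => (Θ : E → ℂ) x * f x) (fun x : X => (Θ : E → ℂ) x * h x) =
      classInner (fun x : X => f x) (fun x : X => h x) := by
  simp only [classInner]
  congr 1
  set F : E → ℂ := fun x => f x * conj (h x)
  set A : E → ℂ := fun x => (Θ : E → ℂ) x * conj ((Θ : E → ℂ) x)
  have hF : ∀ (n : N) (x : E), F (n * x) = F x := fun n x => by simp only [F, hf, hh]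
  have hA : ∀ x : E, ∑ n : N, A (n * x) = (Nat.card N : ℂ) := fun x => by
    have := congrFun (cosetAvg_self_eq_one N Θ hΘ) x
    rw [cosetAvg, inv_mul_eq_iff_eq_mul₀ (Nat.cast_ne_zero.2 Nat.card_pos.ne'), mul_one] at this
    exact this
  calc ∑ x : X, (Θ : E → ℂ) x * f x * conj ((Θ : E → ℂ) x * h x) = ∑ x : X, A x * F x :=
        Finset.sum_congr rfl fun x _ => by simp only [A, F, map_mul]; ring
    _ = ∑ x : X, F x := by
        apply mul_left_cancel₀ (Nat.cast_ne_zero.2 (Nat.card_pos (α := N)).ne' : (Nat.card N : ℂ) ≠ 0)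
        rw [show (Nat.card N : ℂ) * ∑ x : X, A x * F x = ∑ n : N, ∑ x : X, A (n * x) * F (n * x) by
          rw [Finset.sum_congr rfl (g := fun _ : N => ∑ x : X, A x * F x) fun (n : N) _ => Fintype.sum_equiv
            (Equiv.mulLeft (⟨(n : E), hNX n.2⟩ : X)) (fun x : X => A ((n : E) * x) * F ((n : E) * x))
            (fun x : X => A x * F x) fun x => rfl,
            Finset.sum_const, Finset.card_univ, ← Nat.card_eq_fintype_card, nsmul_eq_mul]]
        rw [Finset.sum_comm, Finset.mul_sum]
        refine Finset.sum_congr rfl fun x _ => ?_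
        simp only [hF]
        rw [← Finset.sum_mul, hA, mul_comm]
    _ = _ := rfl

end Twist

variable {p : ℕ} {G : Type u} [Group G] [Fintype G] (N : Subgroup G) [N.Normal] [Fintype N]

theorem exists_overSystem_of_invariant [hp : Fact p.Prime] (hsolv : IsPSolvable p G)
    (hN : ¬ p ∣ Nat.card N) (θ : IrrCharacter N) (hinv : ∀ g : G, conjFun N (θ : N → ℂ) g = θ)
    (ih : ∀ (Q : Type u) [Group Q] [Fintype Q], IsPSolvable p Q →
      (Subgroup.center Q).index ≤ N.index → ∃ L : Set (IrrCharacter Q), IsLiftSystem p L) :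
    ∃ L : Set (IrrCharacter G), IsOverSystem p N θ L := by
  classical
  obtain ⟨d, ρ, hρ, hθ⟩ := θ.2
  haveI := hρ
  have hinv' : IsInvariant N ρ := fun g n => by
    rw [hθ]; exact congrFun (hinv g) n
  haveI := finite_finExt N ρ hinv'
  let E := finExt N ρ
  letI : Fintype E := Fintype.ofFinite E
  letI := Fintype.ofFinite (IrrCharacter E)
  let π : E →* G := (extProj N ρ).comp E.subtype
  have hπ : Function.Surjective π := finExt_proj_surjective N ρ hinv'
  let j : N →* E := (extEmb N ρ).codRestrict _ (extEmb_mem_finExt N ρ)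
  have hπj : ∀ n : N, π (j n) = n := fun n => rfl
  have hj : Function.Injective j := fun a b h => Subtype.ext (by rw [← hπj a, h, hπj])
  let Ns : Subgroup E := j.range
  letI : Fintype Ns := Fintype.ofFinite Ns
  haveI hNs : Ns.Normal := ⟨by
    rintro _ ⟨n, rfl⟩ e
    exact ⟨normalConjHom N (π e) n, Subtype.ext (extEmb_conj N ρ e n).symm⟩⟩
  let eN : N ≃* Ns := j.ofInjective hj
  have heN : ∀ n : N, ((eN n : Ns) : E) = j n := fun n => rfl
  set K := π.ker with hK
  letI : Fintype K := Fintype.ofFinite K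
  have hKc : ∀ k ∈ K, ∀ e : E, k * e = e * k := fun k hk e => by
    obtain ⟨c, hc⟩ := eq_scal_of_proj_eq_one N ρ (MonoidHom.mem_ker.1 hk)
    replace hc : (k : extGroup N ρ) = extScal N ρ c := hc
    refine Subtype.ext ?_
    show (k : extGroup N ρ) * e = e * k
    rw [hc, extScal_comm]
  have hdN : d ∣ Nat.card N := degree_dvd_card θ (by rw [← hθ]; simp)
  have hoN : orderOf (detHom ρ) ∣ Nat.card N := orderOf_dvd_of_pow_eq_one
    (MonoidHom.ext fun n => by
      rw [MonoidHom.pow_apply, ← map_pow, pow_card_eq_one', map_one, MonoidHom.one_apply])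
  have hKp : ¬ p ∣ Nat.card K := by
    intro h
    obtain ⟨k, hk⟩ := exists_prime_orderOf_dvd_card' (G := K) p h
    obtain ⟨c, hc⟩ := eq_scal_of_proj_eq_one N ρ (MonoidHom.mem_ker.1 k.2)
    replace hc : ((k : E) : extGroup N ρ) = extScal N ρ c := hc
    have hcp : c ^ p = 1 := by
      have h1 := congrArg (fun z : K => ((z : E) : extGroup N ρ)) (hk ▸ pow_orderOf_eq_one k : k ^ p = 1)
      simp only [SubmonoidClass.coe_pow, OneMemClass.coe_one] at h1
      rw [hc, ← map_pow] at h1
      have h2 := congrArg (extOp N ρ) h1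
      rw [extOp_scal, map_one] at h2
      haveI := nontrivial_coord N ρ
      exact scalU_injective _ (h2.trans (map_one _).symm)
    have hco : Nat.Coprime p (d * orderOf (detHom ρ)) :=
      Nat.Coprime.mul_right (hp.out.coprime_iff_not_dvd.2 fun h => hN (h.trans hdN))
        (hp.out.coprime_iff_not_dvd.2 fun h => hN (h.trans hoN))
    have hc1 : c = 1 := by
      have h1 := scal_mem_finExt_pow N ρ (hc ▸ (k : E).2 : extScal N ρ c ∈ finExt N ρ)
      rw [← orderOf_eq_one_iff]
      exact Nat.eq_one_of_dvd_coprimes hco (orderOf_dvd_of_pow_eq_one hcp) (orderOf_dvd_of_pow_eq_one h1)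
    rw [hc1, map_one] at hc
    rw [show k = 1 from Subtype.ext (Subtype.ext hc), orderOf_one] at hk
    exact hp.out.one_lt.ne hk
  -- the quotient
  letI : Fintype (E ⧸ Ns) := Fintype.ofFinite _
  set q := QuotientGroup.mk' Ns with hq
  have hqs : Function.Surjective q := QuotientGroup.mk'_surjective Ns
  have hEsolv : IsPSolvable p E :=
    isPSolvable_of_coprime_extension π hπ (hp.out.coprime_iff_not_dvd.2 hKp).symm hsolv
  set Kq := K.map q with hKq
  have hKqc : Kq ≤ Subgroup.center (E ⧸ Ns) := by
    rintro _ ⟨k, hk, rfl⟩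
    refine Subgroup.mem_center_iff.2 fun y => ?_
    obtain ⟨e, rfl⟩ := hqs y
    rw [← map_mul, ← map_mul, hKc k hk e]
  have hidx : (Subgroup.center (E ⧸ Ns)).index ≤ N.index := by
    refine (Nat.le_of_dvd (Nat.pos_of_ne_zero Subgroup.index_ne_zero_of_finite)
      (Subgroup.index_dvd_of_le hKqc)).trans (le_of_eq ?_)
    rw [hKq, Subgroup.index_map, hq, QuotientGroup.ker_mk',
      MonoidHom.range_eq_top.2 (QuotientGroup.mk'_surjective Ns), Subgroup.index_top, mul_one,
      ← Subgroup.index_comap_of_surjective N hπ]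
    congr 1
    refine le_antisymm (sup_le (fun k hk => ?_) ?_) fun e he => ?_
    · rw [Subgroup.mem_comap, MonoidHom.mem_ker.1 hk]; exact N.one_mem
    · rintro _ ⟨n, rfl⟩
      exact n.2
    · have : e * (j ⟨π e, he⟩)⁻¹ ∈ K := by
        rw [hK, MonoidHom.mem_ker, map_mul, map_inv, hπj]
        exact mul_inv_cancel _
      simpa using Subgroup.mul_mem_sup this (show j ⟨π e, he⟩ ∈ Ns from ⟨_, rfl⟩)
  obtain ⟨LQ, hLQ⟩ := ih (E ⧸ Ns) (CfsgLib.PGroup.isPSolvable_quotient hp.out hEsolv Ns) hidx
  haveI : Kq.Normal := ⟨fun k hk g => by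
    rw [Subgroup.mem_center_iff.1 (hKqc hk) g, mul_inv_cancel_right]
    exact hk⟩
  have hKqp : ¬ p ∣ Nat.card Kq := fun h => hKp (h.trans (Subgroup.card_map_dvd K q))
  -- the extended character
  let σ : Representation ℂ E (Fin d → ℂ) := (Units.coeHom _).comp ((extOp N ρ).comp E.subtype)
  haveI hσ : σ.IsIrreducible := irreducible_of_comp_eq σ ρ j fun n => rfl
  let Θ : IrrCharacter E := ⟨σ.character, ⟨d, σ, hσ, rfl⟩⟩
  have hΘ : ∀ n : N, (Θ : E → ℂ) (j n) = (θ : N → ℂ) n := fun n => by rw [← hθ]; rfl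
  have hΘN : IsIrrCharacter Ns (fun n : Ns => (Θ : E → ℂ) n) := by
    have : (fun n : Ns => (Θ : E → ℂ) n) = fun n : Ns => (θ : N → ℂ) (eN.symm n) := funext fun n => by
      conv_lhs => rw [← eN.apply_symm_apply n, heN, hΘ]
    rw [this]
    exact isIrrCharacter_comp_surjective θ.2 eN.symm.toMonoidHom eN.symm.surjective
  have hconst : ∀ (f : E ⧸ Ns → ℂ) (n : Ns) (x : E), f (q ((n : E) * x)) = f (q x) := fun f n x => by
    rw [map_mul, show q (n : E) = 1 from (QuotientGroup.eq_one_iff _).2 n.2, one_mul]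
  have hisom : ∀ (X : Subgroup E) [Fintype X], Ns ≤ X → ∀ f h : E ⧸ Ns → ℂ,
      classInner (fun x : X => (Θ : E → ℂ) x * f (q x)) (fun x : X => (Θ : E → ℂ) x * h (q x)) =
        classInner (fun x : X => f (q x)) (fun x : X => h (q x)) := fun X _ hX f h =>
    classInner_mul_extension Ns Θ hΘN hX (fun x => f (q x)) (fun x => h (q x)) (hconst f) (hconst h)
  have hisoTop : ∀ f h : E ⧸ Ns → ℂ,
      classInner (fun x : E => (Θ : E → ℂ) x * f (q x)) (fun x : E => (Θ : E → ℂ) x * h (q x)) =
        classInner f h := fun f h => by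
    rw [← CfsgLib.Block.Weight.classInner_comp_surjective q hqs f h,
      ← classInner_equiv Subgroup.topEquiv, ← classInner_equiv Subgroup.topEquiv (fun x : E => f (q x))]
    exact hisom ⊤ le_top f h
  -- the correspondence
  let Rel : IrrCharacter G → IrrCharacter (E ⧸ Ns) → Prop := fun χ lam =>
    ∀ e : E, (χ : G → ℂ) (π e) = (Θ : E → ℂ) e * (lam : E ⧸ Ns → ℂ) (q e)
  have hRover : ∀ χ lam, Rel χ lam → classInner (fun n : N => (χ : G → ℂ) n) (θ : N → ℂ) ≠ 0 := by
    intro χ lam h
    rw [show (fun n : N => (χ : G → ℂ) n) = ((lam : E ⧸ Ns → ℂ) 1) • (θ : N → ℂ) from funext fun n => by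
      rw [← hπj n, h, hΘ, show q (j n) = 1 from (QuotientGroup.eq_one_iff _).2 ⟨n, rfl⟩, Pi.smul_apply,
        smul_eq_mul, mul_comm], classInner_smul_left, classInner_irr_self, mul_one]
    exact irr_one_ne_zero lam
  have hRex : ∀ χ : IrrCharacter G, classInner (fun n : N => (χ : G → ℂ) n) (θ : N → ℂ) ≠ 0 →
      ∃ lam, Rel χ lam := by
    intro χ hχ
    let χE : IrrCharacter E := ⟨fun e => (χ : G → ℂ) (π e), isIrrCharacter_comp_surjective χ.2 π hπ⟩
    have hne : classInner (fun n : Ns => (χE : E → ℂ) n) (fun n : Ns => (Θ : E → ℂ) n) ≠ 0 := by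
      rw [← classInner_equiv eN (fun n : Ns => (χE : E → ℂ) n)]
      rw [show (fun n : N => (χE : E → ℂ) (eN n : Ns)) = fun n : N => (χ : G → ℂ) n from funext fun n => rfl,
        show (fun n : N => (Θ : E → ℂ) (eN n : Ns)) = (θ : N → ℂ) from funext hΘ]
      exact hχ
    obtain ⟨hirr, heq⟩ := gallagher Ns Θ hΘN χE hne
    set η := cosetAvg Ns (fun x => (χE : E → ℂ) x * conj ((Θ : E → ℂ) x)) with hη
    obtain ⟨lam, hlam, hlam'⟩ := exists_isIrr_quotient hirr Ns fun z hz => by
      have := cosetAvg_mul_left Ns (fun x => (χE : E → ℂ) x * conj ((Θ : E → ℂ) x)) ⟨z, hz⟩ 1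
      rw [mul_one] at this
      exact this
    exact ⟨⟨lam, hlam⟩, fun e => (congrFun heq e).trans (congrArg (_ * ·) (hlam' e).symm)⟩
  have hnormR : ∀ χ lam, Rel χ lam → ∀ χ' lam', Rel χ' lam' →
      classInner (χ : G → ℂ) (χ' : G → ℂ) = classInner (lam : E ⧸ Ns → ℂ) (lam' : E ⧸ Ns → ℂ) := by
    intro χ lam h χ' lam' h'
    rw [← CfsgLib.Block.Weight.classInner_comp_surjective π hπ]
    rw [funext h, funext h', hisoTop]
  have hRuniq : ∀ χ lam, Rel χ lam → ∀ χ' lam', Rel χ' lam' → (χ = χ' ↔ lam = lam') := by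
    intro χ lam h χ' lam' h'
    have he := hnormR χ lam h χ' lam' h'
    rw [classInner_irr, classInner_irr] at he
    constructor
    · intro e
      by_contra hne
      rw [if_pos e, if_neg hne] at he
      exact one_ne_zero he
    · intro e
      by_contra hne
      rw [if_neg hne, if_pos e] at he
      exact zero_ne_one he
  -- detecting pairs in the extension
  have hdet : ∀ lam ∈ LQ, ∃ (X : Subgroup E) (_ : Fintype X) (γ : IrrCharacter X),
      ¬ p ∣ Nat.card X ∧ K ≤ X ∧ Ns ≤ X ∧
      (∀ (s : Finset (IrrCharacter (E ⧸ Ns))) (c : IrrCharacter (E ⧸ Ns) → ℂ) (f : E ⧸ Ns → ℂ), ↑s ⊆ LQ →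
        (∀ y, ¬ p ∣ orderOf y → f y = ∑ μ ∈ s, c μ * (μ : E ⧸ Ns → ℂ) y) →
        classInner (fun x : X => (Θ : E → ℂ) x * f (q x)) (γ : X → ℂ) = if lam ∈ s then c lam else 0) ∧
      (∀ μ ∈ LQ, classInner (fun x : X => (Θ : E → ℂ) x * (μ : E ⧸ Ns → ℂ) (q x)) (γ : X → ℂ) =
        if μ = lam then 1 else 0) ∧
      ∀ h : Ns ≤ X, classInner (fun n : N => (γ : X → ℂ) (Subgroup.inclusion h (eN n))) (θ : N → ℂ) ≠ 0 := by
    intro lam hlam
    obtain ⟨H, _, α, hH, hKH, hd⟩ := hLQ.exists_detects hlam Kq hKqp
    set X := H.comap q with hX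
    letI := Fintype.ofFinite X
    have hNX : Ns ≤ X := fun n hn => by
      simp [hX, hq, (QuotientGroup.eq_one_iff n).2 hn, one_mem]
    let qX : X →* H := (q.comp X.subtype).codRestrict H fun x => x.2
    have hqX : Function.Surjective qX := fun y => by
      obtain ⟨e, he⟩ := hqs (y : E ⧸ Ns)
      exact ⟨⟨e, by rw [hX, Subgroup.mem_comap, he]; exact y.2⟩, Subtype.ext he⟩
    have hXp : ¬ p ∣ Nat.card X := by
      rw [CfsgLib.Coprime.card_eq_card_mul_card_map_mk' Ns hNX, ← hq, hX,
        Subgroup.map_comap_eq_self_of_surjective hqs]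
      intro h
      rcases hp.out.dvd_mul.1 h with e | e
      · rw [← Nat.card_congr eN.toEquiv] at e; exact hN e
      · exact hH e
    let αE : E ⧸ Ns → ℂ := fun y => if h : y ∈ H then (α : H → ℂ) ⟨y, h⟩ else 0
    have hαE : ∀ x : X, αE (q x) = (α : H → ℂ) (qX x) := fun x => dif_pos x.2
    have hiso : ∀ f h : E ⧸ Ns → ℂ,
        classInner (fun x : X => (Θ : E → ℂ) x * f (q x)) (fun x : X => (Θ : E → ℂ) x * h (q x)) =
          classInner (fun y : H => f y) (fun y : H => h y) := fun f h => by
      rw [hisom X hNX]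
      exact CfsgLib.Block.Weight.classInner_comp_surjective qX hqX (fun y : H => f y) (fun y : H => h y)
    have hαH : (fun y : H => αE y) = (α : H → ℂ) := funext fun y => dif_pos y.2
    have hγirr : IsIrrCharacter X (fun x : X => (Θ : E → ℂ) x * αE (q x)) := by
      refine isIrr_of_isCharacter_norm_one ?_ ?_
      · rw [show (fun x : X => (Θ : E → ℂ) x * αE (q x)) =
          (fun x : X => (Θ : E → ℂ) x) * fun x : X => (α : H → ℂ) (qX x) from funext fun x => by
            rw [Pi.mul_apply, hαE]]
        exact isCharacter_mul (isCharacter_comp (isCharacter_irr Θ) X.subtype)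
          (isCharacter_comp (isCharacter_irr α) qX)
      · rw [hiso, hαH, classInner_irr_self]
    refine ⟨X, inferInstance, ⟨_, hγirr⟩, hXp, fun k hk => hKH ⟨k, hk, rfl⟩, hNX, ?_, ?_, fun h => ?_⟩
    · intro s c f hs hf
      rw [hiso, hαH]
      exact coeff_eq hH hd hs hf
    · intro μ hμ
      rw [hiso, hαH]
      split_ifs with e
      · exact (hd μ hμ).1 e
      · exact (hd μ hμ).2 e
    · rw [show (fun n : N => (fun x : X => (Θ : E → ℂ) x * αE (q x)) (Subgroup.inclusion h (eN n))) =
        ((α : H → ℂ) 1) • (θ : N → ℂ) from funext fun n => by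
          show (Θ : E → ℂ) (j n) * αE (q (j n)) = _
          rw [hΘ, show q (j n) = 1 from (QuotientGroup.eq_one_iff _).2 ⟨n, rfl⟩, Pi.smul_apply,
            smul_eq_mul, mul_comm]
          congr 1
          exact dif_pos H.one_mem, classInner_smul_left, classInner_irr_self, mul_one]
      exact irr_one_ne_zero α
  refine ⟨{χ | ∃ lam ∈ LQ, Rel χ lam}, fun χ hχ => ?_, ?_⟩
  · obtain ⟨β, hβ⟩ := hRex χ hχ
    obtain ⟨s, c, hs, hc⟩ := hLQ.1 β
    have hgood : ∀ lam ∈ s, c lam ≠ 0 → ∃ χ' : IrrCharacter G, Rel χ' lam := by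
      intro lam hlam hne
      obtain ⟨X, _, γ, hXp, hKX, hNX, hcoef, hδ, -⟩ := hdet lam (hs (Finset.mem_coe.2 hlam))
      let one : IrrCharacter K := ⟨fun _ => 1, isIrrCharacter_one⟩
      set χE : E → ℂ := fun e => (χ : G → ℂ) (π e) with hχE
      have hχEc : IsCharacter E χE := isCharacter_comp (isCharacter_irr χ) π
      have h1 : classInner (fun x : X => χE x) (γ : X → ℂ) ≠ 0 := by
        rw [show (fun x : X => χE x) = fun x : X => (Θ : E → ℂ) x * (β : E ⧸ Ns → ℂ) (q x) from
          funext fun x => hβ x, hcoef s c _ hs hc, if_pos hlam]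
        exact hne
      have h2 : classInner (fun k : K => (γ : X → ℂ) (Subgroup.inclusion hKX k)) (one : K → ℂ) ≠ 0 :=
        constituent_under X.subtype (Subgroup.inclusion hKX) hχEc γ one h1 fun θ' hθ' => by
          rw [show (fun k : K => χE (X.subtype (Subgroup.inclusion hKX k))) =
            ((χ : G → ℂ) 1) • (one : K → ℂ) from funext fun k => by
              show (χ : G → ℂ) (π (k : E)) = _
              rw [MonoidHom.mem_ker.1 k.2]; simp [one], classInner_smul_left,
            classInner_irr_ne hθ'.symm, mul_zero]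
      let Lam : E → ℂ := fun e => (Θ : E → ℂ) e * (lam : E ⧸ Ns → ℂ) (q e)
      have hLam : IsIrrCharacter E Lam := isIrr_of_isCharacter_norm_one
        (isCharacter_mul (isCharacter_irr Θ) (isCharacter_comp (isCharacter_irr lam) q))
        (by rw [hisoTop, classInner_irr_self])
      have h3 := constituent_over X.subtype (Subgroup.inclusion hKX) (isCharacter_of_isIrr hLam) γ one
        (show classInner (fun x : X => Lam x) (γ : X → ℂ) ≠ 0 by
          rw [hδ lam (hs (Finset.mem_coe.2 hlam)), if_pos rfl]; exact one_ne_zero) h2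
      have h4 : cosetAvg K Lam = Lam := (cosetAvg_irr K ⟨Lam, hLam⟩).resolve_right fun e => h3 (by
        have h5 := congrFun e 1
        simp only [cosetAvg, mul_one, Pi.zero_apply] at h5
        simpa [classInner, one] using h5)
      have hLK : ∀ z ∈ K, Lam z = Lam 1 := fun z hz => by
        rw [← h4]
        have := cosetAvg_mul_left K Lam ⟨z, hz⟩ 1
        rwa [mul_one] at this
      obtain ⟨χ', hχ', hval⟩ := exists_isIrr_quotient hLam K hLK
      let e := QuotientGroup.quotientKerEquivOfSurjective π hπ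
      refine ⟨⟨fun g => χ' (e.symm g), isIrrCharacter_comp_surjective hχ' e.symm.toMonoidHom
        e.symm.surjective⟩, fun x => ?_⟩
      show χ' (e.symm (π x)) = _
      rw [show π x = e (x : E ⧸ K) from rfl, e.symm_apply_apply]
      exact hval x
    let Xl : IrrCharacter (E ⧸ Ns) → IrrCharacter G := fun lam =>
      if h : ∃ χ' : IrrCharacter G, Rel χ' lam then h.choose else χ
    set s0 := s.filter (fun lam => c lam ≠ 0) with hs0
    have hXl : ∀ lam ∈ s0, Rel (Xl lam) lam := fun lam h => by
      obtain ⟨h1, h2⟩ := Finset.mem_filter.1 h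
      simp only [Xl, dif_pos (hgood lam h1 h2)]
      exact (hgood lam h1 h2).choose_spec
    refine ⟨s0.image Xl, fun μ => ∑ lam ∈ s0.filter (fun lam => Xl lam = μ), c lam, ?_, fun g hg => ?_⟩
    · intro μ hμ
      obtain ⟨lam, hlam, rfl⟩ := Finset.mem_image.1 (Finset.mem_coe.1 hμ)
      exact ⟨lam, hs (Finset.mem_coe.2 (Finset.mem_filter.1 hlam).1), hXl lam hlam⟩
    · obtain ⟨e, rfl⟩ := hπ g
      have he : ¬ p ∣ orderOf e := by
        intro h
        have h1 : orderOf e ∣ orderOf (π e) * Nat.card K := orderOf_dvd_of_pow_eq_one (by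
          have hk : e ^ orderOf (π e) ∈ K := by rw [hK, MonoidHom.mem_ker, map_pow, pow_orderOf_eq_one]
          rw [pow_mul]
          exact congrArg Subtype.val (pow_card_eq_one' (x := (⟨_, hk⟩ : K))))
        rcases hp.out.dvd_mul.1 (h.trans h1) with e' | e'
        · exact hg e'
        · exact hKp e'
      have hqreg : ¬ p ∣ orderOf (q e) := fun h => he (h.trans (orderOf_map_dvd q e))
      calc (χ : G → ℂ) (π e) = (Θ : E → ℂ) e * ∑ lam ∈ s0, c lam * (lam : E ⧸ Ns → ℂ) (q e) := by
            rw [hβ, hc _ hqreg, hs0, Finset.sum_filter]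
            congr 1
            refine Finset.sum_congr rfl fun lam _ => ?_
            split_ifs with h
            · rfl
            · simp [not_not.1 h]
        _ = ∑ lam ∈ s0, c lam * (Xl lam : G → ℂ) (π e) := by
            rw [Finset.mul_sum]
            exact Finset.sum_congr rfl fun lam h => by rw [hXl lam h]; ring
        _ = _ := by
            simp only [Finset.sum_mul]
            rw [← Finset.sum_fiberwise_of_maps_to (t := s0.image Xl) (g := Xl)
              fun lam h => Finset.mem_image_of_mem Xl h]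
            exact Finset.sum_congr rfl fun μ _ => Finset.sum_congr rfl fun lam h => by
              rw [(Finset.mem_filter.1 h).2]
  · rintro χ ⟨lam, hlam, hrel⟩
    refine ⟨hRover χ lam hrel, ?_⟩
    obtain ⟨X, _, γ, hXp, -, hNX, -, hδ, hγθ⟩ := hdet lam hlam
    set H := X.map π with hH
    letI := Fintype.ofFinite H
    letI := Fintype.ofFinite (IrrCharacter H)
    let πX : X →* H := π.subgroupMap X
    have hπX : Function.Surjective πX := π.subgroupMap_surjective X
    obtain ⟨α, hα⟩ : ∃ α : IrrCharacter H,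
        (⟨fun x => (α : H → ℂ) (πX x), isIrrCharacter_comp_surjective α.2 πX hπX⟩ : IrrCharacter X) = γ := by
      by_contra hcon
      push Not at hcon
      have h1 : classInner (fun x : X => (χ : G → ℂ) (π x)) (γ : X → ℂ) = 1 := by
        rw [show (fun x : X => (χ : G → ℂ) (π x)) = fun x : X => (Θ : E → ℂ) x * (lam : E ⧸ Ns → ℂ) (q x)
          from funext fun x => hrel x, hδ lam hlam, if_pos rfl]
      have hrH : IsCharacter H (fun y : H => (χ : G → ℂ) y) := isCharacter_comp (isCharacter_irr χ) H.subtype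
      rw [show (fun x : X => (χ : G → ℂ) (π x)) = ∑ α : IrrCharacter H,
          classInner (fun y : H => (χ : G → ℂ) y) (α : H → ℂ) • fun x : X => (α : H → ℂ) (πX x) from
        funext fun x => by
          have := congrFun (classFun_expand (isClassFunction_of_isCharacter hrH)) (πX x)
          simp only [Finset.sum_apply, Pi.smul_apply] at this ⊢
          exact this, classInner_sum_left, Finset.sum_eq_zero fun α _ => by
          rw [classInner_smul_left, classInner_irr_ne (χ := ⟨fun x => (α : H → ℂ) (πX x),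
            isIrrCharacter_comp_surjective α.2 πX hπX⟩) (hcon α), mul_zero]] at h1
      exact zero_ne_one h1
    have htr : ∀ μ : IrrCharacter G, classInner (fun y : H => (μ : G → ℂ) y) (α : H → ℂ) =
        classInner (fun x : X => (μ : G → ℂ) (π x)) (γ : X → ℂ) := fun μ => by
      rw [← CfsgLib.Block.Weight.classInner_comp_surjective πX hπX (fun y : H => (μ : G → ℂ) y), ← hα]
      rfl
    refine ⟨H, inferInstance, α, fun h => hXp (h.trans (Subgroup.card_map_dvd X π)), ?_, fun μ hμ => ?_⟩
    · rintro μ ⟨lam', hlam', hrel'⟩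
      rw [htr, show (fun x : X => (μ : G → ℂ) (π x)) = fun x : X => (Θ : E → ℂ) x * (lam' : E ⧸ Ns → ℂ) (q x)
        from funext fun x => hrel' x, hδ lam' hlam']
      have hiff := hRuniq μ lam' hrel' χ lam hrel
      exact ⟨fun e => if_pos (hiff.1 e), fun e => if_neg fun e' => e (hiff.2 e')⟩
    · rw [htr] at hμ
      exact constituent_over X.subtype ((Subgroup.inclusion hNX).comp eN.toMonoidHom)
        (isCharacter_comp (isCharacter_irr μ) π) γ θ hμ (hγθ hNX)

end CfsgLib.Block.FongSwan
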