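import Cfsg.Agent.Lib.Char.Gallagher
import Cfsg.Agent.Lib.Char.SteinbergDescend
import Cfsg.Agent.Lib.Block.WeightCentric
import Cfsg.Agent.Lib.Block.BrauerChars
import Cfsg.Agent.Lib.Coprime.Core

/-!
# Character systems realising the Brauer characters

`IsLiftSystem p L`: on regular elements every irreducible character is a combination of the members of
`L`, and each member has a detecting irreducible character of a subgroup of order prime to `p`.
The coefficients are then natural numbers (`IsLiftSystem.expand`).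
-/

open scoped ComplexConjugate

set_option autoImplicit false
set_option linter.unusedSectionVars false

namespace CfsgLib.Block.FongSwan

open Cfsg CfsgLib.Char

universe u

section Tools

variable {X H : Type u} [Group X] [Group H] [Fintype H] {N : Type u} [Group N] [Fintype N]

/-- A constituent transmits its constituents. -/
theorem constituent_over (ι : H →* X) (j : N →* H) {f : X → ℂ} (hf : IsCharacter X f) (α : IrrCharacter H)
    (θ : IrrCharacter N) (h1 : classInner (fun h => f (ι h)) (α : H → ℂ) ≠ 0)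
    (h2 : classInner (fun n => (α : H → ℂ) (j n)) (θ : N → ℂ) ≠ 0) :
    classInner (fun n => f (ι (j n))) (θ : N → ℂ) ≠ 0 := by
  have hs := isCharacter_comp (isCharacter_sub_constituent (isCharacter_comp hf ι) α h1) j
  obtain ⟨s, hs⟩ := classInner_char_irr_nat hs θ
  obtain ⟨a, ha⟩ := classInner_char_irr_nat (isCharacter_comp (isCharacter_irr α) j) θ
  have ha' : classInner (fun n => (α : H → ℂ) (j n)) (θ : N → ℂ) = a := ha
  have hs' : classInner ((fun n => f (ι (j n))) - fun n => (α : H → ℂ) (j n)) (θ : N → ℂ) = s := hs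
  rw [classInner_sub_left, ha', sub_eq_iff_eq_add] at hs'
  rw [hs', ← Nat.cast_add, Nat.cast_ne_zero]
  have : a ≠ 0 := fun e => h2 (by rw [ha', e, Nat.cast_zero])
  omega

/-- If all constituents of the restriction are `θ`, then so are those of a constituent. -/
theorem constituent_under (ι : H →* X) (j : N →* H) {f : X → ℂ} (hf : IsCharacter X f) (α : IrrCharacter H)
    (θ : IrrCharacter N) (h1 : classInner (fun h => f (ι h)) (α : H → ℂ) ≠ 0)
    (h2 : ∀ θ' : IrrCharacter N, θ' ≠ θ → classInner (fun n => f (ι (j n))) (θ' : N → ℂ) = 0) :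
    classInner (fun n => (α : H → ℂ) (j n)) (θ : N → ℂ) ≠ 0 := by
  obtain ⟨θ', hθ'⟩ := exists_irr_inner_ne_zero (isCharacter_comp (isCharacter_irr α) j) fun e =>
    irr_one_ne_zero α (by simpa using congrFun e 1)
  obtain rfl : θ' = θ := by_contra fun hne => constituent_over ι j hf α θ' h1 hθ' (h2 θ' hne)
  exact hθ'

end Tools

variable (p : ℕ) {G : Type u} [Group G] [Fintype G]

/-- A detecting pair for `χ` inside `L`. -/
def Detects (L : Set (IrrCharacter G)) (χ : IrrCharacter G) (H : Subgroup G) [Fintype H]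
    (α : IrrCharacter H) : Prop :=
  ∀ μ ∈ L, (μ = χ → classInner (fun h : H => (μ : G → ℂ) h) (α : H → ℂ) = 1) ∧
    (μ ≠ χ → classInner (fun h : H => (μ : G → ℂ) h) (α : H → ℂ) = 0)

/-- `f` is a combination of `L` on regular elements. -/
def Spans (L : Set (IrrCharacter G)) (f : G → ℂ) : Prop :=
  ∃ (s : Finset (IrrCharacter G)) (c : IrrCharacter G → ℂ), ↑s ⊆ L ∧
    ∀ g : G, ¬ p ∣ orderOf g → f g = ∑ χ ∈ s, c χ * (χ : G → ℂ) g

/-- A system of lifts. -/
def IsLiftSystem (L : Set (IrrCharacter G)) : Prop :=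
  (∀ χ : IrrCharacter G, Spans p L (χ : G → ℂ)) ∧
    ∀ χ ∈ L, ∃ (H : Subgroup G) (_ : Fintype H) (α : IrrCharacter H),
      ¬ p ∣ Nat.card H ∧ Detects L χ H α

variable {p}

theorem regular_of_mem {H : Subgroup G} (hH : ¬ p ∣ Nat.card H) (h : H) : ¬ p ∣ orderOf (h : G) :=
  fun e => hH (e.trans (by rw [Subgroup.orderOf_coe]; exact orderOf_dvd_natCard h))

/-- The coefficient of a detected member. -/
theorem coeff_eq {L : Set (IrrCharacter G)} {χ : IrrCharacter G} {H : Subgroup G} [Fintype H]
    {α : IrrCharacter H} (hH : ¬ p ∣ Nat.card H) (hd : Detects L χ H α)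
    {s : Finset (IrrCharacter G)} (hs : ↑s ⊆ L) {c : IrrCharacter G → ℂ} {f : G → ℂ}
    (hf : ∀ g : G, ¬ p ∣ orderOf g → f g = ∑ μ ∈ s, c μ * (μ : G → ℂ) g) [Decidable (χ ∈ s)] :
    classInner (fun h : H => f h) (α : H → ℂ) = if χ ∈ s then c χ else 0 := by
  classical
  rw [show (fun h : H => f h) = ∑ μ ∈ s, c μ • fun h : H => (μ : G → ℂ) h from funext fun h => by
      rw [hf _ (regular_of_mem hH h)]; simp [Finset.sum_apply],
    classInner_sum_left]
  simp only [classInner_smul_left]
  rw [Finset.sum_congr rfl (g := fun μ => if χ = μ then c μ else 0) fun μ hμ => by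
    rcases eq_or_ne μ χ with rfl | hne
    · rw [(hd μ (hs hμ)).1 rfl, mul_one, if_pos rfl]
    · rw [(hd μ (hs hμ)).2 hne, mul_zero, if_neg (Ne.symm hne)], Finset.sum_ite_eq]
  split_ifs <;> rfl

/-- Replace the detecting subgroup by a larger one of order prime to `p`. -/
theorem Detects.enlarge {L : Set (IrrCharacter G)} {χ : IrrCharacter G} (hχ : χ ∈ L)
    {H : Subgroup G} [Fintype H] {α : IrrCharacter H} (hd : Detects L χ H α) {K : Subgroup G}
    [Fintype K] (hHK : H ≤ K) : ∃ β : IrrCharacter K, Detects L χ K β := by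
  classical
  have := Fintype.ofFinite (IrrCharacter K)
  set j := Subgroup.inclusion hHK
  have h1 : classInner (fun h : H => (χ : G → ℂ) (j h : G)) (α : H → ℂ) ≠ 0 := by
    rw [show classInner (fun h : H => (χ : G → ℂ) (j h : G)) (α : H → ℂ) = 1 from (hd χ hχ).1 rfl]
    exact one_ne_zero
  have hrK : IsCharacter K (fun k : K => (χ : G → ℂ) k) := isCharacter_comp (isCharacter_irr χ) K.subtype
  obtain ⟨β, hβ1, hβ2⟩ : ∃ β : IrrCharacter K, classInner (fun k : K => (χ : G → ℂ) k) (β : K → ℂ) ≠ 0 ∧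
      classInner (fun h : H => (β : K → ℂ) (j h)) (α : H → ℂ) ≠ 0 := by
    by_contra hc
    push Not at hc
    apply h1
    rw [show (fun h : H => (χ : G → ℂ) (j h : G)) = ∑ β : IrrCharacter K,
        classInner (fun k : K => (χ : G → ℂ) k) (β : K → ℂ) • fun h : H => (β : K → ℂ) (j h) from
      funext fun h => by
        have := congrFun (classFun_expand (isClassFunction_of_isCharacter hrK)) (j h)
        simp only [Finset.sum_apply, Pi.smul_apply] at this ⊢
        exact this, classInner_sum_left]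
    refine Finset.sum_eq_zero fun β _ => ?_
    rw [classInner_smul_left]
    by_cases h0 : classInner (fun k : K => (χ : G → ℂ) k) (β : K → ℂ) = 0
    · rw [h0, zero_mul]
    · rw [hc β h0, mul_zero]
  refine ⟨β, fun μ hμ => ⟨?_, fun hne => by_contra fun h =>
    constituent_over K.subtype j (isCharacter_irr μ) β α h hβ2 ((hd μ hμ).2 hne)⟩⟩
  rintro rfl
  obtain ⟨b, hb⟩ := classInner_char_irr_nat hrK β
  have hs := isCharacter_comp (isCharacter_sub_constituent hrK β hβ1) j
  obtain ⟨r, hr⟩ := classInner_char_irr_nat hs α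
  obtain ⟨a, ha⟩ := classInner_char_irr_nat (isCharacter_comp (isCharacter_irr β) j) α
  have ha' : classInner (fun h : H => (β : K → ℂ) (j h)) (α : H → ℂ) = a := ha
  -- a repeated constituent would be counted twice
  suffices b ≤ 1 by
    have : b ≠ 0 := fun e => hβ1 (by rw [hb, e, Nat.cast_zero])
    rw [hb, show b = 1 by omega, Nat.cast_one]
  by_contra hb2
  have h2 := isCharacter_sub_constituent (isCharacter_sub_constituent hrK β hβ1) β (by
    rw [classInner_sub_left, classInner_irr_self, hb, sub_ne_zero, Nat.cast_ne_one]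
    omega)
  obtain ⟨t, ht⟩ := classInner_char_irr_nat (isCharacter_comp h2 j) α
  have ht' : classInner (((fun h : H => (μ : G → ℂ) (j h : G)) - fun h : H => (β : K → ℂ) (j h)) -
      fun h : H => (β : K → ℂ) (j h)) (α : H → ℂ) = t := ht
  rw [classInner_sub_left, classInner_sub_left, ha',
    show classInner (fun h : H => (μ : G → ℂ) (j h : G)) (α : H → ℂ) = 1 from (hd μ hμ).1 rfl] at ht'
  have hsum : (t + a + a : ℕ) = 1 := by
    have : ((t + a + a : ℕ) : ℂ) = ((1 : ℕ) : ℂ) := by push_cast; linear_combination -ht'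
    exact_mod_cast this
  have : a ≠ 0 := fun e => hβ2 (by rw [ha', e, Nat.cast_zero])
  omega

theorem not_dvd_card_sup [Fact p.Prime] {H N : Subgroup G} [N.Normal] (hH : ¬ p ∣ Nat.card H)
    (hN : ¬ p ∣ Nat.card N) : ¬ p ∣ Nat.card (H ⊔ N : Subgroup G) := fun h => by
  rcases (Fact.out : p.Prime).dvd_mul.mp (h.trans (CfsgLib.Coprime.card_sup_dvd_of_normal H N)) with e | e
  · exact hH e
  · exact hN e

/-- Detecting subgroups may contain a given normal subgroup of order prime to `p`. -/
theorem IsLiftSystem.exists_detects [Fact p.Prime] {L : Set (IrrCharacter G)} (hL : IsLiftSystem p L)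
    {χ : IrrCharacter G} (hχ : χ ∈ L) (N : Subgroup G) [N.Normal] (hN : ¬ p ∣ Nat.card N) :
    ∃ (H : Subgroup G) (_ : Fintype H) (α : IrrCharacter H),
      ¬ p ∣ Nat.card H ∧ N ≤ H ∧ Detects L χ H α := by
  obtain ⟨H, _, α, hH, hd⟩ := hL.2 χ hχ
  letI := Fintype.ofFinite ↥(H ⊔ N)
  obtain ⟨β, hβ⟩ := hd.enlarge hχ (K := H ⊔ N) le_sup_left
  exact ⟨H ⊔ N, inferInstance, β, not_dvd_card_sup hH hN, le_sup_right, hβ⟩

/-- The decomposition on regular elements has natural coefficients. -/
theorem IsLiftSystem.expand [Fintype (IrrCharacter G)] {L : Set (IrrCharacter G)}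
    (hL : IsLiftSystem p L) (ψ : IrrCharacter G) :
    ∃ m : IrrCharacter G → ℕ, (∀ χ, χ ∉ L → m χ = 0) ∧
      ∀ g : G, ¬ p ∣ orderOf g → (ψ : G → ℂ) g = ∑ χ, (m χ : ℂ) * (χ : G → ℂ) g := by
  classical
  obtain ⟨s, c, hs, hc⟩ := hL.1 ψ
  have hex : ∀ χ : IrrCharacter G, ∃ m : ℕ, (m : ℂ) = if χ ∈ s then c χ else 0 := by
    intro χ
    by_cases hχ : χ ∈ s
    · obtain ⟨H, _, α, hH, hd⟩ := hL.2 χ (hs hχ)
      obtain ⟨m, hm⟩ := classInner_char_irr_nat (isCharacter_comp (isCharacter_irr ψ) H.subtype) α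
      have hm' : classInner (fun h : H => (ψ : G → ℂ) h) (α : H → ℂ) = m := hm
      exact ⟨m, by rw [← hm', coeff_eq hH hd hs hc]⟩
    · exact ⟨0, by simp [hχ]⟩
  choose m hm using hex
  refine ⟨m, fun χ hχ => ?_, fun g hg => ?_⟩
  · have := hm χ
    rw [if_neg (fun h => hχ (hs (Finset.mem_coe.2 h))), Nat.cast_eq_zero] at this
    exact this
  · rw [hc g hg, ← Finset.sum_subset (Finset.subset_univ s) fun χ _ hχ => by rw [hm, if_neg hχ, zero_mul]]
    exact Finset.sum_congr rfl fun χ hχ => by rw [hm, if_pos hχ]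

end CfsgLib.Block.FongSwan
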