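import Cfsg.Agent.Lib.Block.FongSwan.PNormal
import Cfsg.Agent.Lib.Block.FongSwan.Central
import Cfsg.Agent.Lib.PGroup.CoprimeOrbits

/-!
# The Fong–Swan theorem, in character theoretic form

`exists_liftSystem`: a `p`-solvable group has irreducible characters, detected on subgroups of order
prime to `p`, spanning all irreducible characters on the regular elements with natural coefficients.
-/

open scoped ComplexConjugate

set_option autoImplicit false
set_option linter.unusedSectionVars false

namespace CfsgLib.Block.FongSwan

open Cfsg CfsgLib.Char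

universe u

theorem exists_liftSystem_aux (p : ℕ) [hp : Fact p.Prime] : ∀ (n m : ℕ) (G : Type u) [Group G] [Fintype G],
    (Subgroup.center G).index ≤ n → Nat.card G ≤ m → IsPSolvable p G →
      ∃ L : Set (IrrCharacter G), IsLiftSystem p L := by
  intro n
  induction n using Nat.strong_induction_on with
  | _ n ihn =>
    intro m
    induction m using Nat.strong_induction_on with
    | _ m ihm =>
      intro G _ _ hn hm hsolv
      classical
      by_cases hG : ¬ p ∣ Nat.card G
      · letI := Fintype.ofFinite (⊤ : Subgroup G)
        refine ⟨Set.univ, fun χ => ⟨{χ}, fun _ => 1, by simp, by simp⟩, fun χ _ =>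
          ⟨⊤, inferInstance, ⟨fun x => (χ : G → ℂ) x, isIrrCharacter_comp_surjective χ.2
            (Subgroup.topEquiv (G := G)).toMonoidHom (Subgroup.topEquiv (G := G)).surjective⟩, by
            rwa [Subgroup.card_top], fun μ _ => ?_⟩⟩
        rw [show classInner (fun h : (⊤ : Subgroup G) => (μ : G → ℂ) h)
            (fun h : (⊤ : Subgroup G) => (χ : G → ℂ) h) = classInner (μ : G → ℂ) (χ : G → ℂ) from
          classInner_equiv Subgroup.topEquiv (μ : G → ℂ) (χ : G → ℂ)]
        exact ⟨fun e => e ▸ classInner_irr_self μ, classInner_irr_ne⟩
      push Not at hG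
      by_cases hO : pCore p G ≠ ⊥
      · haveI := CfsgLib.Coprime.pCore_normal' (G := G) p
        set O := pCore p G with hOdef
        haveI : Nontrivial O := (Subgroup.nontrivial_iff_ne_bot O).2 hO
        set W := (Subgroup.center O).map O.subtype with hW
        haveI : W.Normal := CfsgLib.Coprime.map_subtype_normal_of_characteristic O _
        have hOp : IsPGroup p O := CfsgLib.Coprime.pCore_isPGroup p
        have hWp : IsPGroup p W := (hOp.to_subgroup _).map O.subtype
        have hab : ∀ a ∈ W, ∀ b ∈ W, a * b = b * a := by
          rintro _ ⟨a, ha, rfl⟩ _ ⟨b, -, rfl⟩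
          rw [← map_mul, ← map_mul, ← Subgroup.mem_center_iff.1 ha b]
        have hW1 : W ≠ ⊥ := by
          rw [hW, Ne, Subgroup.map_eq_bot_iff_of_injective _ O.subtype_injective]
          exact (Subgroup.nontrivial_iff_ne_bot _).1 hOp.center_nontrivial
        letI := Fintype.ofFinite (G ⧸ W)
        have hlt : Nat.card (G ⧸ W) < Nat.card G := by
          rw [Subgroup.card_eq_card_quotient_mul_card_subgroup W]
          exact lt_mul_of_one_lt_right Nat.card_pos ((Subgroup.one_lt_card_iff_ne_bot W).2 hW1)
        have hc : (Subgroup.center (G ⧸ W)).index ≤ n := by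
          refine (Nat.le_of_dvd (Nat.pos_of_ne_zero Subgroup.index_ne_zero_of_finite) ?_).trans hn
          refine (Subgroup.index_dvd_of_le (?_ : (Subgroup.center G).map (QuotientGroup.mk' W) ≤ _)).trans
            (Subgroup.index_map_dvd _ (QuotientGroup.mk'_surjective W))
          rintro _ ⟨z, hz, rfl⟩
          refine Subgroup.mem_center_iff.2 fun y => ?_
          obtain ⟨g, rfl⟩ := QuotientGroup.mk'_surjective W y
          rw [← map_mul, ← map_mul, Subgroup.mem_center_iff.1 hz g]
        obtain ⟨L, hL⟩ := ihm (Nat.card (G ⧸ W)) (lt_of_lt_of_le hlt hm) (G ⧸ W) hc le_rfl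
          (CfsgLib.PGroup.isPSolvable_quotient hp.out hsolv W)
        exact exists_of_quotient W hab hWp hL
      push Not at hO
      set N := pPrimeCore p G with hNdef
      haveI : N.Normal := by
        haveI := CfsgLib.Coprime.pPrimeCore_characteristic (G := G) p
        infer_instance
      have hNp : ¬ p ∣ Nat.card N := CfsgLib.Coprime.pPrimeCore_not_dvd hp.out
      have hZp : ¬ p ∣ Nat.card (Subgroup.center G) := by
        intro h
        obtain ⟨z, hz⟩ := exists_prime_orderOf_dvd_card' (G := Subgroup.center G) p h
        haveI : (Subgroup.zpowers (z : G)).Normal := ⟨fun x hx g => by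
          have : x ∈ Subgroup.center G := Subgroup.zpowers_le.2 z.2 hx
          rwa [Subgroup.mem_center_iff.1 this g, mul_inv_cancel_right]⟩
        have h1 := CfsgLib.Coprime.le_pCore (p := p) (N := Subgroup.zpowers (z : G))
          (IsPGroup.of_card (n := 1) (by rw [Nat.card_zpowers, Subgroup.orderOf_coe, hz, pow_one]))
        rw [hO, le_bot_iff, Subgroup.zpowers_eq_bot, OneMemClass.coe_eq_one] at h1
        rw [h1, orderOf_one] at hz
        exact hp.out.one_lt.ne hz
      have hZN : Subgroup.center G ≤ N := CfsgLib.Coprime.le_pPrimeCore_of_not_dvd hp.out hZp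
      have hNZ : N ≠ Subgroup.center G := by
        intro hNeq
        have hne : N ≠ ⊤ := fun e => hG |> fun h => hNp (by rw [e, Subgroup.card_top]; exact h)
        haveI : Nontrivial (G ⧸ N) := QuotientGroup.nontrivial_iff.2 hne
        rcases CfsgLib.PGroup.pCore_ne_bot_or_pPrimeCore_ne_bot
          (CfsgLib.PGroup.isPSolvable_quotient hp.out hsolv N) with h | h
        · haveI := CfsgLib.Coprime.pCore_normal' (G := G ⧸ N) p
          set P := pCore p (G ⧸ N)
          set X := P.comap (QuotientGroup.mk' N) with hX
          let f : X →* P := ((QuotientGroup.mk' N).comp X.subtype).codRestrict P fun x => x.2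
          haveI hnilP := (CfsgLib.Coprime.pCore_isPGroup (G := G ⧸ N) p).isNilpotent
          haveI : Group.IsNilpotent X := Subgroup.isNilpotent_of_ker_le_center f (fun x hx => by
            refine Subgroup.mem_center_iff.2 fun y => Subtype.ext ?_
            have : (x : G) ∈ N := (QuotientGroup.eq_one_iff _).1 (congrArg Subtype.val hx)
            rw [hNeq] at this
            exact Subgroup.mem_center_iff.1 this y)
          let S : Sylow p X := default
          haveI : (S : Subgroup X).Normal := Sylow.normal_of_normalizerCondition Group.normalizerCondition_of_isNilpotent S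
          haveI := S.characteristic_of_normal inferInstance
          haveI : X.Normal := Subgroup.Normal.comap inferInstance _
          haveI : ((S : Subgroup X).map X.subtype).Normal :=
            CfsgLib.Coprime.map_subtype_normal_of_characteristic X _
          have h1 := CfsgLib.Coprime.le_pCore (p := p) (S.2.map X.subtype)
          rw [hO, le_bot_iff, Subgroup.map_eq_bot_iff_of_injective _ X.subtype_injective] at h1
          refine S.ne_bot_of_dvd_card ?_ h1
          obtain ⟨k, hk⟩ := IsPGroup.iff_card.1 (CfsgLib.Coprime.pCore_isPGroup (G := G ⧸ N) p)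
          have hk0 : k ≠ 0 := fun e => h (Subgroup.eq_bot_of_card_eq _ (by rw [hk, e, pow_zero]))
          rw [CfsgLib.Coprime.card_eq_card_mul_card_map_mk' N (show N ≤ X from fun x hx => by
            simp [hX, (QuotientGroup.eq_one_iff x).2 hx, one_mem]),
            Subgroup.map_comap_eq_self_of_surjective (QuotientGroup.mk'_surjective N), hk]
          exact (dvd_pow_self p hk0).mul_left _
        · exact h (CfsgLib.Coprime.pPrimeCore_quotient_eq_bot hp.out)
      have hNlt : N.index < (Subgroup.center G).index :=
        Subgroup.index_strictAnti (lt_of_le_of_ne hZN (Ne.symm hNZ))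
      letI := Fintype.ofFinite N
      refine exists_of_overSystems p N fun θ => ?_
      by_cases htop : inertia N (θ : N → ℂ) = ⊤
      · exact exists_overSystem_of_invariant N hsolv hNp θ
          (fun g => (mem_inertia N _ g).1 (htop ▸ Subgroup.mem_top g))
          fun Q _ _ hQ hQi => ihn N.index (lt_of_lt_of_le hNlt hn) (Nat.card Q) Q hQi le_rfl hQ
      · letI := Fintype.ofFinite (inertia N (θ : N → ℂ))
        refine exists_overSystem_of_inertia p N hNp θ ?_
        set T := inertia N (θ : N → ℂ) with hT
        have hZT : Subgroup.center G ≤ T :=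
          hZN.trans (le_inertia N (isClassFunction_of_isCharacter (isCharacter_irr θ)))
        have hlt : (Subgroup.center T).index < (Subgroup.center G).index := by
          have h1 : (Subgroup.center T).index ≤ (Subgroup.center G).relIndex T :=
            Nat.le_of_dvd (Nat.pos_of_ne_zero Subgroup.index_ne_zero_of_finite)
              (Subgroup.index_dvd_of_le fun z hz => Subgroup.mem_center_iff.2 fun y =>
                Subtype.ext (Subgroup.mem_center_iff.1 (Subgroup.mem_subgroupOf.1 hz) y))
          refine lt_of_le_of_lt h1 ?_
          rw [← Subgroup.relIndex_mul_index hZT]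
          refine lt_mul_of_one_lt_right (Nat.pos_of_ne_zero Subgroup.index_ne_zero_of_finite) ?_
          exact Subgroup.one_lt_index_of_ne_top htop
        exact ihn (Subgroup.center T).index (lt_of_lt_of_le hlt hn) (Nat.card T) T le_rfl le_rfl
          (CfsgLib.CoprimeOrbit.isPSolvable_subgroup hp.out hsolv T)

/-- Fong–Swan. -/
theorem exists_liftSystem {p : ℕ} [Fact p.Prime] {G : Type u} [Group G] [Fintype G]
    (hsolv : IsPSolvable p G) : ∃ L : Set (IrrCharacter G), IsLiftSystem p L :=
  exists_liftSystem_aux p _ _ G le_rfl le_rfl hsolv

end CfsgLib.Block.FongSwan
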