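import Cfsg.Agent.Lib.Block.FongSwan.Basic
import Cfsg.Agent.Lib.Char.Correspondence

/-!
# Lift systems above a character of a normal subgroup

`IsOverSystem p N θ L` localises `IsLiftSystem` to the characters over `θ`.
`exists_of_overSystems` combines them over the orbits, `exists_overSystem_of_inertia` induces from the
inertia group.
-/

open scoped ComplexConjugate

set_option autoImplicit false
set_option linter.unusedSectionVars false

namespace CfsgLib.Block.FongSwan

open Cfsg CfsgLib.Char

universe u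

variable (p : ℕ) {G : Type u} [Group G] [Fintype G] (N : Subgroup G) [N.Normal] [Fintype N]

/-- A system of lifts of the characters over `θ`. -/
def IsOverSystem (θ : IrrCharacter N) (L : Set (IrrCharacter G)) : Prop :=
  (∀ χ : IrrCharacter G, classInner (fun n : N => (χ : G → ℂ) n) (θ : N → ℂ) ≠ 0 →
      Spans p L (χ : G → ℂ)) ∧
    ∀ χ ∈ L, classInner (fun n : N => (χ : G → ℂ) n) (θ : N → ℂ) ≠ 0 ∧
      ∃ (H : Subgroup G) (_ : Fintype H) (α : IrrCharacter H), ¬ p ∣ Nat.card H ∧ Detects L χ H α ∧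
        ∀ μ : IrrCharacter G, classInner (fun h : H => (μ : G → ℂ) h) (α : H → ℂ) ≠ 0 →
          classInner (fun n : N => (μ : G → ℂ) n) (θ : N → ℂ) ≠ 0

/-- All constituents of the restriction of a character over an invariant character agree. -/
theorem constituent_unique {θ θ' : IrrCharacter N} (hinv : ∀ g : G, conjFun N (θ : N → ℂ) g = θ)
    {χ : IrrCharacter G} (h : classInner (fun n : N => (χ : G → ℂ) n) (θ : N → ℂ) ≠ 0) (hne : θ' ≠ θ) :
    classInner (fun n : N => (χ : G → ℂ) n) (θ' : N → ℂ) = 0 :=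
  classInner_restrict_zero N χ.2 θ.2 θ'.2 h fun g e => hne (Subtype.ext (e.symm.trans (hinv g)))

theorem exists_of_overSystems (h : ∀ θ : IrrCharacter N, ∃ L : Set (IrrCharacter G), IsOverSystem p N θ L) :
    ∃ L : Set (IrrCharacter G), IsLiftSystem p L := by
  classical
  choose Lo hLo using h
  let s : Setoid (IrrCharacter N) :=
    ⟨fun θ θ' => ∃ g : G, (θ' : N → ℂ) = conjFun N (θ : N → ℂ) g,
      fun θ => ⟨1, (conjFun_one N _).symm⟩,
      fun {θ θ'} ⟨g, hg⟩ => ⟨g⁻¹, by rw [hg, conjFun_inv_cancel]⟩,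
      fun {θ θ' θ''} ⟨g, hg⟩ ⟨k, hk⟩ => ⟨g * k, by rw [hk, hg, conjFun_mul]⟩⟩
  let r : IrrCharacter N → IrrCharacter N := fun θ => (Quotient.mk s θ).out
  have hr : ∀ θ : IrrCharacter N, ∃ g : G, (θ : N → ℂ) = conjFun N (r θ : N → ℂ) g := fun θ => Quotient.mk_out (s := s) θ
  have hrc : ∀ θ θ' : IrrCharacter N, (∃ g : G, (θ' : N → ℂ) = conjFun N (θ : N → ℂ) g) → r θ = r θ' :=
    fun θ θ' h => congrArg Quotient.out (Quotient.sound (s := s) h)
  refine ⟨{χ | ∃ θ, χ ∈ Lo (r θ)}, fun χ => ?_, ?_⟩
  · obtain ⟨θ, hθ⟩ := exists_irr_inner_ne_zero (isCharacter_comp (isCharacter_irr χ) N.subtype) fun e =>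
      irr_one_ne_zero χ (by simpa using congrFun e 1)
    obtain ⟨g, hg⟩ := hr θ
    have hθ' : classInner (fun n : N => (χ : G → ℂ) n) (r θ : N → ℂ) ≠ 0 := by
      rw [← classInner_restrict_conj N (isClassFunction_irr χ) (r θ : N → ℂ) g, ← hg]
      exact hθ
    obtain ⟨s', c, hs, hc⟩ := (hLo (r θ)).1 χ hθ'
    exact ⟨s', c, fun μ hμ => ⟨θ, hs hμ⟩, hc⟩
  · rintro χ ⟨θ, hχ⟩
    obtain ⟨hover, H, _, α, hH, hd, hind⟩ := (hLo (r θ)).2 χ hχ
    refine ⟨H, inferInstance, α, hH, fun μ hμ => ?_⟩
    obtain ⟨θ', hμ'⟩ := hμ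
    by_cases hrr : r θ' = r θ
    · exact hd μ (hrr ▸ hμ')
    have h0 : classInner (fun h : H => (μ : G → ℂ) h) (α : H → ℂ) = 0 := by
      by_contra hne
      have h1 := hind μ hne
      have h2 := ((hLo (r θ')).2 μ hμ').1
      obtain ⟨g, hg⟩ : ∃ g : G, conjFun N (r θ' : N → ℂ) g = (r θ : N → ℂ) := by
        by_contra hc
        push Not at hc
        exact h1 (classInner_restrict_zero N μ.2 (r θ').2 (r θ).2 h2 hc)
      refine hrr ?_
      have e1 : r (r θ') = r (r θ) := hrc _ _ ⟨g, hg.symm⟩
      have e2 : ∀ x, r (r x) = r x := fun x => hrc _ _ (hr x)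
      rwa [e2, e2] at e1
    refine ⟨fun e => ?_, fun _ => h0⟩
    subst e
    exact absurd (((hd μ hχ).1 rfl).symm.trans h0) one_ne_zero

theorem exists_overSystem_of_inertia [hp : Fact p.Prime] (hN : ¬ p ∣ Nat.card N) (θ : IrrCharacter N)
    [Fintype (inertia N (θ : N → ℂ))]
    (hT : ∃ L : Set (IrrCharacter (inertia N (θ : N → ℂ))), IsLiftSystem p L) :
    ∃ L : Set (IrrCharacter G), IsOverSystem p N θ L := by
  classical
  set T := inertia N (θ : N → ℂ) with hTdef
  have hNT : N ≤ T := le_inertia N (isClassFunction_of_isCharacter (isCharacter_irr θ))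
  obtain ⟨LT, hLT⟩ := hT
  letI := Fintype.ofFinite (N.subgroupOf T)
  letI := Fintype.ofFinite (IrrCharacter T)
  set N' := N.subgroupOf T with hN'
  set θ' : IrrCharacter N' := ⟨_, isIrrCharacter_subOfFun N hNT θ.2⟩ with hθ'
  have hinv : ∀ t : T, conjFun N' (θ' : N' → ℂ) t = θ' := conjFun_subOfFun N le_rfl
  have hN'p : ¬ p ∣ Nat.card N' := by
    rwa [Nat.card_congr (Subgroup.subgroupOfEquivOfLe hNT).toEquiv]
  have hsub : ∀ f : T → ℂ, classInner (fun n : N => f (Subgroup.inclusion hNT n)) (θ : N → ℂ) =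
      classInner (fun n : N' => f n) (θ' : N' → ℂ) := fun f => (classInner_subOfFun N hNT f _).symm
  let L : Set (IrrCharacter G) := {χ | ∃ ψ ∈ LT,
    classInner (fun n : N' => (ψ : T → ℂ) n) (θ' : N' → ℂ) ≠ 0 ∧
      (χ : G → ℂ) = indFun T (ψ : T → ℂ)}
  have hirr : ∀ ψ : IrrCharacter T, classInner (fun n : N' => (ψ : T → ℂ) n) (θ' : N' → ℂ) ≠ 0 →
      IsIrrCharacter G (indFun T (ψ : T → ℂ)) ∧
        classInner (fun n : N => indFun T (ψ : T → ℂ) n) (θ : N → ℂ) =
          classInner (fun n : N' => (ψ : T → ℂ) n) (θ' : N' → ℂ) := fun ψ h => by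
    have := correspondence_irr N θ.2 hNT ψ (by rw [hsub]; exact h)
    exact ⟨this.1, this.2.trans (hsub _)⟩
  refine ⟨L, fun χ hχ => ?_, ?_⟩
  · obtain ⟨ψ, hψ, hψχ, hψi⟩ := exists_inertia_correspondent_inner N χ.2 θ.2 hχ
    set ψ' : IrrCharacter T := ⟨ψ, hψ⟩
    have hψθ : classInner (fun n : N' => (ψ' : T → ℂ) n) (θ' : N' → ℂ) ≠ 0 := by
      rw [← hsub, hψi hNT]; exact hχ
    obtain ⟨s, c, hs, hc⟩ := hLT.1 ψ'
    -- only members over `θ` occur
    have hgood : ∀ lam ∈ s, c lam ≠ 0 → classInner (fun n : N' => (lam : T → ℂ) n) (θ' : N' → ℂ) ≠ 0 := by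
      intro lam hlam hne
      obtain ⟨H, _, α, hH, hNH, hd⟩ := hLT.exists_detects (hs (Finset.mem_coe.2 hlam)) N' hN'p
      have h1 : classInner (fun h : H => (ψ' : T → ℂ) h) (α : H → ℂ) ≠ 0 := by
        rw [coeff_eq hH hd hs hc, if_pos hlam]; exact hne
      have h2 : classInner (fun n : N' => (α : H → ℂ) (Subgroup.inclusion hNH n)) (θ' : N' → ℂ) ≠ 0 :=
        constituent_under H.subtype (Subgroup.inclusion hNH) (isCharacter_irr ψ') α θ' h1
          fun θ'' hne' => constituent_unique N' hinv hψθ hne'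
      exact constituent_over H.subtype (Subgroup.inclusion hNH) (isCharacter_irr lam) α θ'
        (show classInner (fun h : H => (lam : T → ℂ) h) (α : H → ℂ) ≠ 0 by
          rw [(hd lam (hs (Finset.mem_coe.2 hlam))).1 rfl]; exact one_ne_zero) h2
    let X : IrrCharacter T → IrrCharacter G := fun lam =>
      if h : classInner (fun n : N' => (lam : T → ℂ) n) (θ' : N' → ℂ) ≠ 0 then ⟨_, (hirr lam h).1⟩ else χ
    set s0 := s.filter (fun lam => c lam ≠ 0) with hs0
    refine ⟨s0.image X, fun μ => ∑ lam ∈ s0.filter (fun lam => X lam = μ), c lam, ?_, fun g hg => ?_⟩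
    · intro μ hμ
      obtain ⟨lam, hlam, rfl⟩ := Finset.mem_image.1 (Finset.mem_coe.1 hμ)
      obtain ⟨h1, h2⟩ := Finset.mem_filter.1 hlam
      exact ⟨lam, hs (Finset.mem_coe.2 h1), hgood lam h1 h2, by simp [X, hgood lam h1 h2]⟩
    · calc (χ : G → ℂ) g = indFun T ψ g := congrFun hψχ g
        _ = ∑ lam ∈ s0, c lam * indFun T (lam : T → ℂ) g := by
            simp only [indFun, Finset.mul_sum]
            rw [Finset.sum_comm]
            refine Finset.sum_congr rfl fun x _ => ?_
            by_cases hx : x⁻¹ * g * x ∈ T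
            · have hreg : ¬ p ∣ orderOf (⟨x⁻¹ * g * x, hx⟩ : T) := by
                intro h
                apply hg
                rw [← Subgroup.orderOf_coe] at h
                have he := orderOf_conj_eq x⁻¹ g
                rw [inv_inv] at he
                exact he ▸ h
              have hext : ∀ f : T → ℂ, extendByZero T f (x⁻¹ * g * x) = f ⟨_, hx⟩ := fun f =>
                Subtype.val_injective.extend_apply f 0 ⟨_, hx⟩
              simp only [hext]
              rw [show ψ = (ψ' : T → ℂ) from rfl, hc _ hreg, Finset.mul_sum, hs0, Finset.sum_filter]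
              refine Finset.sum_congr rfl fun lam _ => ?_
              split_ifs with h
              · ring
              · simp [not_not.1 h]
            · have hext : ∀ f : T → ℂ, extendByZero T f (x⁻¹ * g * x) = 0 := fun f =>
                Function.extend_apply' _ _ _ fun ⟨t, ht⟩ => hx (ht ▸ t.2)
              simp [hext]
        _ = ∑ μ ∈ s0.image X, (∑ lam ∈ s0.filter (fun lam => X lam = μ), c lam) * (μ : G → ℂ) g := by
            simp only [Finset.sum_mul]
            rw [← Finset.sum_fiberwise_of_maps_to (t := s0.image X) (g := X)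
              fun lam hlam => Finset.mem_image_of_mem X hlam]
            refine Finset.sum_congr rfl fun μ _ => Finset.sum_congr rfl fun lam hlam => ?_
            obtain ⟨h1, rfl⟩ := Finset.mem_filter.1 hlam
            obtain ⟨h2, h3⟩ := Finset.mem_filter.1 h1
            simp [X, hgood lam h2 h3]
  · rintro χ ⟨lam, hlam, hlamθ, hχ⟩
    refine ⟨by rw [hχ, (hirr lam hlamθ).2]; exact hlamθ, ?_⟩
    obtain ⟨H, _, α, hH, hNH, hd⟩ := hLT.exists_detects hlam N' hN'p
    have hαθ : classInner (fun n : N' => (α : H → ℂ) (Subgroup.inclusion hNH n)) (θ' : N' → ℂ) ≠ 0 :=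
      constituent_under H.subtype (Subgroup.inclusion hNH) (isCharacter_irr lam) α θ'
        (show classInner (fun h : H => (lam : T → ℂ) h) (α : H → ℂ) ≠ 0 by
          rw [(hd lam hlam).1 rfl]; exact one_ne_zero)
        fun θ'' hne' => constituent_unique N' hinv hlamθ hne'
    let e := H.equivMapOfInjective T.subtype T.subtype_injective
    letI := Fintype.ofFinite (H.map T.subtype)
    set α' : IrrCharacter (H.map T.subtype) := ⟨fun x => (α : H → ℂ) (e.symm x),
      isIrrCharacter_comp_surjective α.2 e.symm.toMonoidHom e.symm.surjective⟩ with hα'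
    have htr : ∀ f : G → ℂ, classInner (fun x : H.map T.subtype => f x) (α' : H.map T.subtype → ℂ) =
        classInner (fun h : H => f (h : T)) (α : H → ℂ) := fun f => by
      rw [← classInner_equiv e (fun x : H.map T.subtype => f x)]
      congr 1
      funext h
      simp [hα']
    refine ⟨H.map T.subtype, inferInstance, α', by
      rwa [Subgroup.card_map_of_injective T.subtype_injective], ?_, fun μ hμ => ?_⟩
    · rintro μ ⟨lam', hlam', hlamθ', hμ⟩
      have hrest : classInner (fun h : H => (μ : G → ℂ) (h : T)) (α : H → ℂ) =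
          classInner (fun h : H => (lam' : T → ℂ) h) (α : H → ℂ) := by
        have hμT : IsCharacter T (fun t : T => (μ : G → ℂ) t) :=
          isCharacter_comp (isCharacter_irr μ) T.subtype
        have hne : classInner (fun t : T => (μ : G → ℂ) t) (lam' : T → ℂ) ≠ 0 := by
          rw [← classInner_conj, ← classInner_indFun T _ _ (isClassFunction_irr μ), ← hμ,
            classInner_irr_self, map_one]
          exact one_ne_zero
        have hr := isCharacter_sub_constituent hμT lam' hne
        by_contra hcon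
        have h0 := constituent_over H.subtype (Subgroup.inclusion hNH) hr α θ'
          (show classInner (fun h : H => ((fun t : T => (μ : G → ℂ) t) - (lam' : T → ℂ)) h) (α : H → ℂ) ≠ 0 by
            rw [show (fun h : H => ((fun t : T => (μ : G → ℂ) t) - (lam' : T → ℂ)) h) =
              (fun h : H => (μ : G → ℂ) (h : T)) - fun h : H => (lam' : T → ℂ) h from rfl,
              classInner_sub_left, sub_ne_zero]
            exact hcon) hαθ
        refine h0 ?_
        rw [show (fun n : N' => ((fun t : T => (μ : G → ℂ) t) - (lam' : T → ℂ))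
            (H.subtype (Subgroup.inclusion hNH n))) =
            (fun n : N' => (μ : G → ℂ) (n : T)) - fun n : N' => (lam' : T → ℂ) n from rfl,
          classInner_sub_left, ← hsub (fun t : T => (μ : G → ℂ) t),
          show classInner (fun n : N => (μ : G → ℂ) (Subgroup.inclusion hNT n : G)) (θ : N → ℂ) =
            classInner (fun n : N => (μ : G → ℂ) n) (θ : N → ℂ) from rfl, hμ, (hirr lam' hlamθ').2,
          sub_self]
      rw [htr, hrest]
      refine ⟨fun he => (hd lam' hlam').1 ?_, fun hne => (hd lam' hlam').2 ?_⟩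
      · refine correspondence_injective N θ.2 hNT lam' lam (by rw [hsub]; exact hlamθ')
          (by rw [hsub]; exact hlamθ) ?_
        rw [← hμ, ← hχ, he]
      · rintro rfl
        exact hne (Subtype.ext (hμ.trans hχ.symm))
    · rw [htr] at hμ
      have h1 := constituent_over H.subtype (Subgroup.inclusion hNH)
        (isCharacter_comp (isCharacter_irr μ) T.subtype) α θ' hμ hαθ
      show classInner (fun n : N => (fun t : T => (μ : G → ℂ) t) (Subgroup.inclusion hNT n)) (θ : N → ℂ) ≠ 0
      rw [hsub (fun t : T => (μ : G → ℂ) t)]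
      exact h1

end CfsgLib.Block.FongSwan
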