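import Cfsg.Agent.Lib.Block.FongSwan.Basic
import Mathlib.GroupTheory.SchurZassenhaus

/-!
# Lift systems modulo a normal abelian `p`-subgroup
-/

open scoped ComplexConjugate

set_option autoImplicit false
set_option linter.unusedSectionVars false

namespace CfsgLib.Block.FongSwan

open Cfsg CfsgLib.Char

universe u

variable {p : ℕ} {G : Type u} [Group G] [Fintype G]

theorem comm_identity {W : Type u} [CommGroup W] (a : ℕ → W) (n : ℕ) :
    (∏ i ∈ Finset.range n, a i ^ i) * a n ^ n * a 0 =
      (∏ i ∈ Finset.range n, a (i + 1) ^ i) * ∏ i ∈ Finset.range (n + 1), a i := by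
  induction n with
  | zero => simp
  | succ n ih =>
    calc (∏ i ∈ Finset.range (n + 1), a i ^ i) * a (n + 1) ^ (n + 1) * a 0
        = ((∏ i ∈ Finset.range n, a i ^ i) * a n ^ n * a 0) * a (n + 1) ^ (n + 1) := by
          rw [Finset.prod_range_succ]
          ac_rfl
      _ = (∏ i ∈ Finset.range n, a (i + 1) ^ i) * (∏ i ∈ Finset.range (n + 1), a i) *
            a (n + 1) ^ (n + 1) := by rw [ih]
      _ = _ := by
          rw [Finset.prod_range_succ (fun i => a (i + 1) ^ i), Finset.prod_range_succ _ (n + 1), pow_succ]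
          ac_rfl

/-- Regular elements of one coset of a normal abelian `p`-subgroup are conjugate. -/
theorem isConj_of_coset [hp : Fact p.Prime] (W : Subgroup G) [W.Normal]
    (hab : ∀ a ∈ W, ∀ b ∈ W, a * b = b * a) (hW : IsPGroup p W) {g : G} {u : W}
    (hg : ¬ p ∣ orderOf g) (hug : ¬ p ∣ orderOf ((u : G) * g)) : IsConj g ((u : G) * g) := by
  letI : CommGroup W := { (inferInstance : Group W) with
    mul_comm := fun a b => Subtype.ext (hab a a.2 b b.2) }
  set m := ordCompl[p] (Nat.card G) with hm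
  have hpow : ∀ z : G, ¬ p ∣ orderOf z → z ^ m = 1 := fun z hz => orderOf_dvd_iff_pow_eq_one.1 (by
    refine (Nat.Coprime.pow_right ((Nat.card G).factorization p)
      (hp.out.coprime_iff_not_dvd.2 hz).symm).dvd_of_dvd_mul_left ?_
    rw [Nat.ordProj_mul_ordCompl_eq_self]
    exact orderOf_dvd_natCard z)
  let a : ℕ → W := fun i => ⟨g ^ i * u * (g ^ i)⁻¹, Subgroup.Normal.conj_mem inferInstance _ u.2 _⟩
  let φ : W →* W := normalConjHom W g
  have hφ : ∀ i, φ (a i) = a (i + 1) := fun i => Subtype.ext (by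
    show g * (g ^ i * u * (g ^ i)⁻¹) * g⁻¹ = g ^ (i + 1) * u * (g ^ (i + 1))⁻¹
    rw [pow_succ' g i, mul_inv_rev]
    simp only [mul_assoc])
  have hP : ∀ n, ((u : G) * g) ^ n = ((∏ i ∈ Finset.range n, a i : W) : G) * g ^ n := by
    intro n
    induction n with
    | zero => simp
    | succ n ih =>
      rw [pow_succ, ih, Finset.prod_range_succ, Subgroup.coe_mul]
      show _ = _ * (g ^ n * u * (g ^ n)⁻¹) * g ^ (n + 1)
      rw [pow_succ]
      group
  have hPm : ∏ i ∈ Finset.range m, a i = 1 := Subtype.ext (by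
    have := hP m
    rw [hpow _ hug, hpow g hg, mul_one] at this
    exact this.symm)
  have ham : a m = a 0 := Subtype.ext (by
    show g ^ m * u * (g ^ m)⁻¹ = g ^ 0 * u * (g ^ 0)⁻¹
    rw [hpow g hg, pow_zero])
  set w := ∏ i ∈ Finset.range m, a i ^ i with hw
  have key : w * a 0 ^ m = φ w := by
    have h := comm_identity a m
    rw [ham, Finset.prod_range_succ (fun i => a i) m, hPm, ham, one_mul] at h
    rw [hw, map_prod]
    simp only [map_pow, hφ]
    exact mul_right_cancel h
  obtain ⟨k, hk⟩ := IsPGroup.iff_card.1 hW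
  have hcop : m.Coprime (p ^ k) :=
    ((Nat.coprime_ordCompl hp.out Nat.card_pos.ne').pow_left k).symm
  have hinj : Function.Injective (fun z : W => z ^ m) := (powCoprime (hk ▸ hcop.symm)).injective
  obtain ⟨v, hv⟩ := (powCoprime (G := W) (hk ▸ hcop.symm)).surjective w⁻¹
  have hvm : v ^ m = w⁻¹ := hv
  -- `v` conjugates `g` to `u g`
  have hu : v * (φ v)⁻¹ = a 0 := hinj (show (v * (φ v)⁻¹) ^ m = a 0 ^ m by
    rw [mul_pow, inv_pow, ← map_pow, hvm, map_inv, inv_inv, ← key, inv_mul_cancel_left])
  refine isConj_iff.2 ⟨(v : G), ?_⟩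
  have h := congrArg Subtype.val hu
  simp only [Subgroup.coe_mul, InvMemClass.coe_inv] at h
  rw [show ((a 0 : W) : G) = (u : G) by show g ^ 0 * (u : G) * (g ^ 0)⁻¹ = u; simp,
    show ((φ v : W) : G) = g * v * g⁻¹ from rfl] at h
  rw [← h]
  group

/-- A lift system of the quotient by a normal abelian `p`-subgroup gives one of the group. -/
theorem exists_of_quotient [hp : Fact p.Prime] (W : Subgroup G) [W.Normal]
    (hab : ∀ a ∈ W, ∀ b ∈ W, a * b = b * a) (hW : IsPGroup p W) [Fintype (G ⧸ W)]
    {L : Set (IrrCharacter (G ⧸ W))} (hL : IsLiftSystem p L) :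
    ∃ L' : Set (IrrCharacter G), IsLiftSystem p L' := by
  classical
  have := Fintype.ofFinite (IrrCharacter G)
  have := Fintype.ofFinite (IrrCharacter (G ⧸ W))
  set π := QuotientGroup.mk' W with hπ
  have hsurj : Function.Surjective π := QuotientGroup.mk'_surjective W
  let infl : IrrCharacter (G ⧸ W) → IrrCharacter G := fun θ =>
    ⟨fun g => (θ : G ⧸ W → ℂ) (π g), isIrrCharacter_comp_surjective θ.2 π hsurj⟩
  have hinj : Function.Injective infl := fun θ θ' h => Subtype.ext (funext fun q => by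
    obtain ⟨g, rfl⟩ := hsurj q
    exact congrFun (congrArg Subtype.val h) g)
  refine ⟨infl '' L, fun χ => ?_, ?_⟩
  · obtain ⟨k, hk0, hk1⟩ := BrauerChars.exists_regExp (n := Nat.card G) hp.out Nat.card_pos.ne'
    set f : G ⧸ W → ℂ := fun q => (χ : G → ℂ) (q.out ^ k) with hf
    have hval : ∀ (g : G) (q : G ⧸ W), ¬ p ∣ orderOf g → π g = q ^ k →
        f q = (χ : G → ℂ) g := by
      intro g q hg hq
      have hr := BrauerChars.regular_pow_regExp (G := G) hp.out hk0 q.out
      have hu : q.out ^ k * g⁻¹ ∈ W := by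
        rw [← QuotientGroup.eq_one_iff, QuotientGroup.mk_mul, QuotientGroup.mk_inv,
          show ((q.out ^ k : G) : G ⧸ W) = q ^ k by rw [QuotientGroup.mk_pow, QuotientGroup.out_eq'],
          ← hq]
        exact mul_inv_cancel _
      obtain ⟨c, hc⟩ := isConj_iff.1 (isConj_of_coset W hab hW (u := ⟨_, hu⟩) hg (by
        simpa using hr))
      simp only [inv_mul_cancel_right] at hc
      show (χ : G → ℂ) (q.out ^ k) = _
      rw [← hc, isClassFunction_irr χ]
    have hpk : ∀ g : G, π g ^ k = π (g ^ k) := fun g => (map_pow π g k).symm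
    have hcl : IsClassFunction (G ⧸ W) f := fun a b => by
      obtain ⟨x, rfl⟩ := hsurj a
      obtain ⟨y, rfl⟩ := hsurj b
      rw [← map_inv, ← map_mul, ← map_mul,
        hval _ _ (BrauerChars.regular_pow_regExp hp.out hk0 _) (hpk _).symm,
        hval _ _ (BrauerChars.regular_pow_regExp hp.out hk0 x) (hpk x).symm, conj_pow,
        isClassFunction_irr χ]
    choose s c hs hc using hL.1
    refine ⟨(Finset.univ.filter (· ∈ L)).image infl,
      fun μ => ∑ θ ∈ Finset.univ.filter (fun θ => infl θ = μ ∧ θ ∈ L),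
        ∑ ψ : IrrCharacter (G ⧸ W), classInner f (ψ : G ⧸ W → ℂ) * if θ ∈ s ψ then c ψ θ else 0,
      by simp [Set.image_subset_iff], fun g hg => ?_⟩
    have h1 : f (π g) = (χ : G → ℂ) g :=
      hval g _ hg (by rw [hpk, BrauerChars.pow_regExp_of_regular hp.out hk1 hg])
    have hreg : ¬ p ∣ orderOf (π g) := fun h => hg (h.trans (orderOf_map_dvd π g))
    rw [Finset.sum_image fun a _ b _ h => hinj h, ← h1]
    conv_lhs => rw [classFun_expand hcl]
    simp only [Finset.sum_apply, Pi.smul_apply, smul_eq_mul]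
    rw [Finset.sum_congr rfl fun ψ _ => by rw [hc ψ _ hreg, Finset.mul_sum]]
    calc ∑ ψ : IrrCharacter (G ⧸ W), ∑ θ ∈ s ψ, classInner f (ψ : G ⧸ W → ℂ) *
          (c ψ θ * (θ : G ⧸ W → ℂ) (π g))
        = ∑ ψ : IrrCharacter (G ⧸ W), ∑ θ ∈ Finset.univ.filter (· ∈ L),
            classInner f (ψ : G ⧸ W → ℂ) * (if θ ∈ s ψ then c ψ θ else 0) * (θ : G ⧸ W → ℂ) (π g) := by
          refine Finset.sum_congr rfl fun ψ _ => ?_
          refine (Finset.sum_congr rfl fun θ hθ => ?_).trans (Finset.sum_subset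
            (fun θ hθ => by simpa using hs ψ (Finset.mem_coe.2 hθ)) fun θ _ hθ => by simp [hθ])
          rw [if_pos hθ, mul_assoc]
      _ = _ := by
          rw [Finset.sum_comm]
          refine Finset.sum_congr rfl fun θ hθ => ?_
          rw [show Finset.univ.filter (fun θ' => infl θ' = infl θ ∧ θ' ∈ L) = {θ} by
            ext θ'
            simp only [Finset.mem_filter, Finset.mem_univ, true_and, Finset.mem_singleton]
            exact ⟨fun h => hinj h.1, by rintro rfl; exact ⟨rfl, (Finset.mem_filter.1 hθ).2⟩⟩,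
            Finset.sum_singleton, Finset.sum_mul]
  · rintro _ ⟨θ, hθ, rfl⟩
    obtain ⟨H, _, α, hH, hd⟩ := hL.2 θ hθ
    set X := H.comap π with hX
    obtain ⟨k, hk⟩ := IsPGroup.iff_card.1 hW
    have hWX : W ≤ X := fun w hw => by
      simp [hX, hπ, Subgroup.mem_comap, (QuotientGroup.eq_one_iff w).2 hw, one_mem]
    have hcardX : Nat.card X = Nat.card W * Nat.card H := by
      have h1 : X.map π = H := Subgroup.map_comap_eq_self_of_surjective hsurj H
      have h2 := CfsgLib.Coprime.card_eq_card_mul_card_map_mk' W hWX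
      rw [show Subgroup.map (QuotientGroup.mk' W) X = H from h1] at h2
      exact h2
    have hidx : (W.subgroupOf X).index = Nat.card H := by
      have h1 := (W.subgroupOf X).card_mul_index
      rw [Nat.card_congr (Subgroup.subgroupOfEquivOfLe hWX).toEquiv, hcardX] at h1
      exact Nat.eq_of_mul_eq_mul_left Nat.card_pos h1
    obtain ⟨K, hK⟩ := Subgroup.exists_right_complement'_of_coprime (N := W.subgroupOf X) (by
      rw [hidx, Nat.card_congr (Subgroup.subgroupOfEquivOfLe hWX).toEquiv, hk]
      exact ((hp.out.coprime_iff_not_dvd.2 hH).pow_left k))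
    set K' := K.map X.subtype with hK'
    letI := Fintype.ofFinite K'
    have hKX : K' ≤ X := Subgroup.map_subtype_le K
    have hcK : Nat.card K' = Nat.card H := by
      rw [hK', Subgroup.card_map_of_injective X.subtype_injective, ← hidx,
        hK.symm.index_eq_card]
    let e : K' →* H := (π.comp K'.subtype).codRestrict H fun x => hKX x.2
    have he : Function.Injective e := (injective_iff_map_eq_one e).2 fun x hx => by
      obtain ⟨y, hy, hxy⟩ := x.2
      have hxW : (x : G) ∈ W := (QuotientGroup.eq_one_iff _).1 (congrArg Subtype.val hx)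
      have : y ∈ W.subgroupOf X := by
        rw [Subgroup.mem_subgroupOf]
        rwa [← hxy] at hxW
      have hy1 : y = 1 := by
        have := hK.disjoint.le_bot ⟨this, hy⟩
        simpa using this
      exact Subtype.ext (by rw [← hxy, hy1]; rfl)
    have heb : Function.Bijective e := (Nat.bijective_iff_injective_and_card e).2 ⟨he, hcK⟩
    refine ⟨K', inferInstance, ⟨fun x => (α : H → ℂ) (e x),
      isIrrCharacter_comp_surjective α.2 e heb.2⟩, hcK ▸ hH, ?_⟩
    rintro _ ⟨μ, hμ, rfl⟩
    have hin : classInner (fun x : K' => (infl μ : G → ℂ) x) (fun x => (α : H → ℂ) (e x)) =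
        classInner (fun h : H => (μ : G ⧸ W → ℂ) h) (α : H → ℂ) :=
      CfsgLib.Block.Weight.classInner_comp_surjective e heb.2 (fun h : H => (μ : G ⧸ W → ℂ) h) (α : H → ℂ)
    refine ⟨fun h => hin.trans ((hd μ hμ).1 (hinj h)), fun h => hin.trans ((hd μ hμ).2 fun e' => h (e' ▸ rfl))⟩

end CfsgLib.Block.FongSwan
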